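import Groth.Agent.S5152
import Groth.Agent.H14.SkDescent

/-!
# A regular pair in an ideal from depth `≥ 2` at all primes containing it
-/
set_option autoImplicit false
set_option linter.unusedSectionVars false
universe u

namespace Groth.Agent.H58.Dep2

open RingTheory.Sequence

theorem exists_regular_pair_of_idealDepth (R : Type u) [CommRing R] (a : Ideal R)
    (h2 : (2 : ℕ∞) ≤ LocCoh.idealDepth a R) :
    ∃ x y : R, x ∈ a ∧ y ∈ a ∧ IsSMulRegular R x ∧
      ∀ m m' : R, y • m = x • m' → ∃ m'' : R, m = x • m'' := by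
  classical
  unfold LocCoh.idealDepth at h2
  split_ifs at h2 with htop
  · -- `a = ⊤`
    have ha : a = ⊤ := by
      rw [smul_eq_mul, Ideal.mul_top] at htop
      exact htop
    refine ⟨1, 1, ha ▸ Submodule.mem_top, ha ▸ Submodule.mem_top, ?_, ?_⟩
    · intro s t hst
      simpa using hst
    · intro m m' _
      exact ⟨m, by rw [one_smul]⟩
  · have hex : ∃ rs : List R, IsWeaklyRegular R rs ∧ (∀ r ∈ rs, r ∈ a) ∧ 2 ≤ rs.length := by
      by_contra hne
      push_neg at hne
      have hle : (⨆ (rs : List R) (_ : IsWeaklyRegular R rs ∧ ∀ r ∈ rs, r ∈ a),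
          (rs.length : ℕ∞)) ≤ 1 := by
        refine iSup₂_le (fun rs hrs => ?_)
        have := hne rs hrs.1 hrs.2
        exact_mod_cast (by omega : rs.length ≤ 1)
      have : (2 : ℕ∞) ≤ 1 := h2.trans hle
      exact absurd this (by decide)
    obtain ⟨rs, hreg, hmem, hlen⟩ := hex
    match rs, hreg, hmem, hlen with
    | x :: y :: tl, hreg, hmem, _ =>
      rw [isWeaklyRegular_cons_iff] at hreg
      obtain ⟨hx, hreg'⟩ := hreg
      rw [isWeaklyRegular_cons_iff] at hreg'
      obtain ⟨hy, -⟩ := hreg'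
      refine ⟨x, y, hmem x (by simp), hmem y (by simp), hx, ?_⟩
      intro m m' hmm
      have h0 : y • (Submodule.Quotient.mk m : QuotSMulTop x R) = 0 := by
        rw [← Submodule.Quotient.mk_smul, Submodule.Quotient.mk_eq_zero, hmm]
        exact Submodule.smul_mem_pointwise_smul _ _ _ Submodule.mem_top
      have h1 := hy.right_eq_zero_of_smul h0
      rw [Submodule.Quotient.mk_eq_zero, Submodule.mem_smul_pointwise_iff_exists] at h1
      obtain ⟨m'', -, hm''⟩ := h1
      exact ⟨m'', hm''.symm⟩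

theorem exists_regular_pair (R : Type u) [CommRing R] [IsNoetherianRing R] (a : Ideal R)
    (h : ∀ p : PrimeSpectrum R, a ≤ p.asIdeal →
      (2 : ℕ∞) ≤ LocCoh.depth (Localization.AtPrime p.asIdeal) (Localization.AtPrime p.asIdeal)) :
    ∃ x y : R, x ∈ a ∧ y ∈ a ∧ IsSMulRegular R x ∧
      ∀ m m' : R, y • m = x • m' → ∃ m'' : R, m = x • m'' := by
  apply exists_regular_pair_of_idealDepth
  rw [Groth.Agent.S5152.result]
  refine le_iInf₂ (fun p hp => ?_)
  rw [Groth.Agent.H14.depth_localizedModule_self]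
  exact h p hp

end Groth.Agent.H58.Dep2
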