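import Mathlib

/-!
# Connected components of a dense open subset whose disconnections separate closures
-/
set_option autoImplicit false
set_option linter.unusedSectionVars false
universe u

namespace Groth.Agent.H58.Dep2

open TopologicalSpace

theorem connectedComponentsMap_bijective_of_sep {X : Type u} [TopologicalSpace X]
    [LocallyConnectedSpace X] (U : Opens X) [LocallyConnectedSpace U]
    (hdense : Dense (U : Set X))
    (hsep : ∀ V1 V2 : Opens X, V1 ⊓ V2 = ⊥ → V1 ⊔ V2 = U →
      closure (V1 : Set X) ∩ closure (V2 : Set X) = ∅) :
    Function.Bijective (Continuous.connectedComponentsMap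
      (continuous_subtype_val : Continuous (fun x : U => (x : X)))) := by
  constructor
  · intro c1 c2
    obtain ⟨u1, rfl⟩ := ConnectedComponents.surjective_coe c1
    obtain ⟨u2, rfl⟩ := ConnectedComponents.surjective_coe c2
    intro heq
    change (ConnectedComponents.mk (u1 : X)) = ConnectedComponents.mk (u2 : X) at heq
    rw [ConnectedComponents.coe_eq_coe] at heq
    rw [ConnectedComponents.coe_eq_coe]
    by_contra hne
    -- the component of `u1` in `U`
    have hK : IsClopen (connectedComponent u1) := isClopen_connectedComponent
    have hopen : IsOpenMap (Subtype.val : U → X) := U.2.isOpenMap_subtype_val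
    let V1 : Opens X := ⟨Subtype.val '' (connectedComponent u1), hopen _ hK.2⟩
    let V2 : Opens X := ⟨Subtype.val '' (connectedComponent u1)ᶜ, hopen _ hK.1.isOpen_compl⟩
    have hdisj : V1 ⊓ V2 = ⊥ := by
      ext z
      simp only [Opens.coe_inf, Opens.coe_bot, Set.mem_inter_iff, Set.mem_empty_iff_false,
        iff_false, not_and]
      rintro ⟨w, hw, rfl⟩ ⟨w', hw', hww'⟩
      have : w' = w := Subtype.ext hww'
      subst this
      exact hw' hw
    have hcov : V1 ⊔ V2 = U := by
      ext z
      simp only [Opens.coe_sup, Set.mem_union, SetLike.mem_coe]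
      constructor
      · rintro (⟨w, -, rfl⟩ | ⟨w, -, rfl⟩)
        · exact w.2
        · exact w.2
      · intro hz
        by_cases hzK : (⟨z, hz⟩ : U) ∈ connectedComponent u1
        · exact Or.inl ⟨⟨z, hz⟩, hzK, rfl⟩
        · exact Or.inr ⟨⟨z, hz⟩, hzK, rfl⟩
    have hempty := hsep V1 V2 hdisj hcov
    have hunion : closure (V1 : Set X) ∪ closure (V2 : Set X) = Set.univ := by
      rw [← closure_union]
      have : (V1 : Set X) ∪ (V2 : Set X) = (U : Set X) := by
        rw [← Opens.coe_sup, hcov]
      rw [this]
      exact hdense.closure_eq
    have hclopen : IsClopen (closure (V1 : Set X)) := by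
      refine ⟨isClosed_closure, ?_⟩
      have : closure (V1 : Set X) = (closure (V2 : Set X))ᶜ := by
        ext z
        constructor
        · intro h1 h2
          have : z ∈ closure (V1 : Set X) ∩ closure (V2 : Set X) := ⟨h1, h2⟩
          rw [hempty] at this
          exact this
        · intro h2
          have : z ∈ closure (V1 : Set X) ∪ closure (V2 : Set X) := by
            rw [hunion]; trivial
          rcases this with h | h
          · exact h
          · exact absurd h h2
      rw [this]
      exact isClosed_closure.isOpen_compl
    have hu1 : (u1 : X) ∈ closure (V1 : Set X) :=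
      subset_closure ⟨u1, mem_connectedComponent, rfl⟩
    have hsub := hclopen.connectedComponent_subset hu1
    have hu2 : (u2 : X) ∈ closure (V1 : Set X) := by
      apply hsub
      rw [heq]
      exact mem_connectedComponent
    have hu2K : u2 ∉ connectedComponent u1 := by
      intro h
      exact hne (connectedComponent_eq h)
    have hu2' : (u2 : X) ∈ closure (V2 : Set X) := subset_closure ⟨u2, hu2K, rfl⟩
    have : (u2 : X) ∈ closure (V1 : Set X) ∩ closure (V2 : Set X) := ⟨hu2, hu2'⟩
    rw [hempty] at this
    exact this
  · intro c
    obtain ⟨x, rfl⟩ := ConnectedComponents.surjective_coe c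
    have hopen : IsOpen (connectedComponent x) := isOpen_connectedComponent
    obtain ⟨u, hu1, hu2⟩ := hdense.inter_open_nonempty _ hopen ⟨x, mem_connectedComponent⟩
    refine ⟨ConnectedComponents.mk (⟨u, hu2⟩ : U), ?_⟩
    change ConnectedComponents.mk u = ConnectedComponents.mk x
    rw [ConnectedComponents.coe_eq_coe']
    exact hu1

end Groth.Agent.H58.Dep2
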