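import Groth.Agent.H58.Dep2.Sep
import Groth.Agent.H58.Dep2.Grade
import Groth.Agent.H58.Dep2.Topo
import Groth.Agent.H49.FibreDepth
import Groth.Agent.H12.Topo

/-!
# Connected components and depth two: scheme level
-/
set_option autoImplicit false
set_option linter.unusedSectionVars false
set_option linter.style.haveILetI false
universe u

namespace Groth.Agent.H58.Dep2

open AlgebraicGeometry CategoryTheory TopologicalSpace Groth.Agent.H6.PuncturedSections

/-- a locally Noetherian scheme is locally connected -/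
theorem locallyConnectedSpace_of_isLocallyNoetherian (X : Scheme.{u}) [IsLocallyNoetherian X] :
    LocallyConnectedSpace X := by
  apply Groth.Agent.H12.locallyConnectedSpace_of_locallyNoetherian
  intro x
  obtain ⟨W, hW, hxW, -⟩ := exists_isAffineOpen_mem_and_subset (x := x) (U := ⊤) trivial
  haveI := IsLocallyNoetherian.component_noetherian ⟨W, hW⟩
  exact ⟨W, W.2.mem_nhds hxW, noetherianSpace_of_isAffineOpen W hW⟩

section Local
variable (X : Scheme.{u}) [IsLocallyNoetherian X]

/-- depth of the stalk at a point of an affine chart -/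
theorem depth_stalk_fromSpec (W : X.Opens) (hW : IsAffineOpen W) (y : PrimeSpectrum Γ(X, W)) :
    LocCoh.depth (X.presheaf.stalk (hW.fromSpec y)) (X.presheaf.stalk (hW.fromSpec y)) =
      LocCoh.depth (Localization.AtPrime y.asIdeal) (Localization.AtPrime y.asIdeal) := by
  haveI := IsLocallyNoetherian.component_noetherian ⟨W, hW⟩
  have hy : hW.fromSpec y ∈ W := by
    have : hW.fromSpec y ∈ Set.range hW.fromSpec := Set.mem_range_self y
    rwa [hW.range_fromSpec] at this
  letI := TopCat.Presheaf.algebra_section_stalk X.presheaf ⟨hW.fromSpec y, hy⟩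
  haveI hloc : IsLocalization y.asIdeal.primeCompl (X.presheaf.stalk (hW.fromSpec y)) :=
    hW.isLocalization_stalk' y hy
  haveI : IsNoetherianRing (X.presheaf.stalk (hW.fromSpec y)) :=
    IsLocalization.isNoetherianRing y.asIdeal.primeCompl _ inferInstance
  exact Groth.Agent.H49.FibreDepth.depth_eq_of_ringEquiv
    (IsLocalization.algEquiv y.asIdeal.primeCompl (X.presheaf.stalk (hW.fromSpec y))
      (Localization.AtPrime y.asIdeal)).toRingEquiv

variable (U : X.Opens)
  (h : ∀ x : X, x ∉ (U : Set X) →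
    (2 : ℕ∞) ≤ LocCoh.depth (X.presheaf.stalk x) (X.presheaf.stalk x))

include h in
/-- the data on an affine chart -/
theorem chart (W : X.Opens) (hW : IsAffineOpen W) :
    ∃ a : Ideal Γ(X, W),
      (∀ w : Spec (CommRingCat.of Γ(X, W)),
        w ∈ LocCoh.puncturedOpen Γ(X, W) a ↔ hW.fromSpec w ∈ U) ∧
      Function.Surjective (toO Γ(X, W) (LocCoh.puncturedOpen Γ(X, W) a)) ∧
      Dense (LocCoh.puncturedOpen Γ(X, W) a : Set (Spec (CommRingCat.of Γ(X, W)))) := by
  haveI := IsLocallyNoetherian.component_noetherian ⟨W, hW⟩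
  let S : Set (PrimeSpectrum Γ(X, W)) := {w | hW.fromSpec w ∉ U}
  have hS : IsClosed S := by
    have : S = (hW.fromSpec ⁻¹ᵁ U : Set (Spec Γ(X, W)))ᶜ := rfl
    rw [this]
    exact (hW.fromSpec ⁻¹ᵁ U).2.isClosed_compl
  have hz : PrimeSpectrum.zeroLocus (PrimeSpectrum.vanishingIdeal S : Set Γ(X, W)) = S := by
    rw [PrimeSpectrum.zeroLocus_vanishingIdeal_eq_closure, hS.closure_eq]
  have hmem : ∀ w : Spec (CommRingCat.of Γ(X, W)),
      w ∈ LocCoh.puncturedOpen Γ(X, W) (PrimeSpectrum.vanishingIdeal S) ↔ hW.fromSpec w ∈ U := by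
    intro w
    change w ∈ (PrimeSpectrum.zeroLocus (PrimeSpectrum.vanishingIdeal S : Set Γ(X, W)))ᶜ ↔ _
    rw [hz]
    exact not_not
  have hdepth : ∀ y : PrimeSpectrum Γ(X, W), PrimeSpectrum.vanishingIdeal S ≤ y.asIdeal →
      (2 : ℕ∞) ≤ LocCoh.depth (Localization.AtPrime y.asIdeal)
        (Localization.AtPrime y.asIdeal) := by
    intro y hy
    have hyS : y ∈ S := by
      rw [← hz]
      exact hy
    rw [← depth_stalk_fromSpec X W hW y]
    exact h _ hyS
  obtain ⟨x, y, hxa, hya, hx, hy⟩ := exists_regular_pair Γ(X, W) _ hdepth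
  exact ⟨PrimeSpectrum.vanishingIdeal S, hmem, toO_surjective Γ(X, W) _ x y hxa hya hx hy,
    dense_puncturedOpen _ x hxa hx⟩

include h in
theorem closure_inter_closure_eq_empty_scheme (V1 V2 : X.Opens) (hdisj : V1 ⊓ V2 = ⊥)
    (hcov : V1 ⊔ V2 = U) : closure (V1 : Set X) ∩ closure (V2 : Set X) = ∅ := by
  rw [Set.eq_empty_iff_forall_notMem]
  rintro z ⟨hz1, hz2⟩
  obtain ⟨W, hW, hzW, -⟩ := exists_isAffineOpen_mem_and_subset (x := z) (U := ⊤) trivial
  obtain ⟨a, hmem, hsurj, -⟩ := chart X U h W hW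
  have hφo : IsOpenMap hW.fromSpec := hW.fromSpec.isOpenEmbedding.isOpenMap
  have hφc : Continuous hW.fromSpec := hW.fromSpec.continuous
  obtain ⟨z', rfl⟩ : z ∈ Set.range hW.fromSpec := by
    rw [hW.range_fromSpec]; exact hzW
  let V1' : (Spec (CommRingCat.of Γ(X, W))).Opens := ⟨hW.fromSpec ⁻¹' (V1 : Set X), V1.2.preimage hφc⟩
  let V2' : (Spec (CommRingCat.of Γ(X, W))).Opens := ⟨hW.fromSpec ⁻¹' (V2 : Set X), V2.2.preimage hφc⟩
  have hdisj' : V1' ⊓ V2' = ⊥ := by
    ext w
    simp only [Opens.coe_inf, Opens.coe_bot, Set.mem_inter_iff, Set.mem_empty_iff_false,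
      iff_false, not_and]
    intro h1 h2
    have : hW.fromSpec w ∈ V1 ⊓ V2 := ⟨h1, h2⟩
    rw [hdisj] at this
    exact this
  have hcov' : V1' ⊔ V2' = LocCoh.puncturedOpen Γ(X, W) a := by
    ext w
    rw [SetLike.mem_coe, SetLike.mem_coe, hmem w, ← hcov]
    rfl
  have hempty := closure_inter_closure_eq_empty a hsurj V1' V2' hdisj' hcov'
  have h1 : z' ∈ closure (V1' : Set (Spec (CommRingCat.of Γ(X, W)))) := by
    have := hφo.preimage_closure_eq_closure_preimage hφc (V1 : Set X)
    have hz : z' ∈ hW.fromSpec ⁻¹' closure (V1 : Set X) := hz1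
    rw [this] at hz
    exact hz
  have h2 : z' ∈ closure (V2' : Set (Spec (CommRingCat.of Γ(X, W)))) := by
    have := hφo.preimage_closure_eq_closure_preimage hφc (V2 : Set X)
    have hz : z' ∈ hW.fromSpec ⁻¹' closure (V2 : Set X) := hz2
    rw [this] at hz
    exact hz
  have : z' ∈ closure (V1' : Set (Spec (CommRingCat.of Γ(X, W)))) ∩
      closure (V2' : Set (Spec (CommRingCat.of Γ(X, W)))) := ⟨h1, h2⟩
  rw [hempty] at this
  exact this

include h in
theorem dense_scheme : Dense (U : Set X) := by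
  intro z
  obtain ⟨W, hW, hzW, -⟩ := exists_isAffineOpen_mem_and_subset (x := z) (U := ⊤) trivial
  obtain ⟨a, hmem, -, hdense⟩ := chart X U h W hW
  have hφo : IsOpenMap hW.fromSpec := hW.fromSpec.isOpenEmbedding.isOpenMap
  have hφc : Continuous hW.fromSpec := hW.fromSpec.continuous
  obtain ⟨z', rfl⟩ : z ∈ Set.range hW.fromSpec := by
    rw [hW.range_fromSpec]; exact hzW
  have hpre : hW.fromSpec ⁻¹' (U : Set X) =
      (LocCoh.puncturedOpen Γ(X, W) a : Set (Spec (CommRingCat.of Γ(X, W)))) := by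
    ext w
    exact (hmem w).symm
  have := hφo.preimage_closure_eq_closure_preimage hφc (U : Set X)
  have hz : z' ∈ closure (hW.fromSpec ⁻¹' (U : Set X)) := by
    rw [hpre]
    exact hdense z'
  rw [← this] at hz
  exact hz

end Local

/-- **Hartshorne**: removing a closed subset along which the depth is at least two does not change
the set of connected components -/
theorem connectedComponentsMap_bijective (X : Scheme.{u}) [IsLocallyNoetherian X] (U : X.Opens)
    (h : ∀ x : X, x ∉ (U : Set X) →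
      (2 : ℕ∞) ≤ LocCoh.depth (X.presheaf.stalk x) (X.presheaf.stalk x)) :
    Function.Bijective (Continuous.connectedComponentsMap
      (continuous_subtype_val : Continuous (fun x : U => (x : X)))) := by
  haveI : LocallyConnectedSpace X := locallyConnectedSpace_of_isLocallyNoetherian X
  haveI : @LocallyConnectedSpace (↥U) instTopologicalSpaceSubtype :=
    locallyConnectedSpace_of_isLocallyNoetherian (U : Scheme.{u})
  exact connectedComponentsMap_bijective_of_sep U (dense_scheme X U h)
    (fun V1 V2 hd hc => closure_inter_closure_eq_empty_scheme X U h V1 V2 hd hc)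

end Groth.Agent.H58.Dep2
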