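import Groth.Agent.H58.Dep2.Affine

/-!
# Separation of the closures of a disconnection of the punctured open (affine case)
-/
set_option autoImplicit false
set_option linter.unusedSectionVars false
universe u

namespace Groth.Agent.H58.Dep2

open AlgebraicGeometry CategoryTheory Opposite TopologicalSpace Groth.Agent.H6.PuncturedSections

variable {R : Type u} [CommRing R]

/-- two sections over the empty open are equal -/
theorem sec_bot_eq (M : Type u) [AddCommGroup M] [Module R M]
    (W : (Spec (CommRingCat.of R)).Opens) (hW : W = ⊥) (s t : Sec M W) : s = t :=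
  sec_ext W (fun i : Empty => (⊥ : (Spec (CommRingCat.of R)).Opens)) (fun i => i.elim)
    (by rw [hW]; exact bot_le) s t (fun i => i.elim)

/-- an element whose section vanishes over `W` lies in every prime of `W` -/
theorem mem_of_toO_eq_zero (W : (Spec (CommRingCat.of R)).Opens) (m : R) (hm : toO R W m = 0)
    (p : Spec (CommRingCat.of R)) (hp : p ∈ W) : m ∈ p.asIdeal := by
  obtain ⟨_, ⟨g, rfl⟩, hpg, hgW⟩ :=
    (PrimeSpectrum.isTopologicalBasis_basic_opens (R := R)).exists_subset_of_mem_open
      (show (p : PrimeSpectrum R) ∈ (W.1 : Set (PrimeSpectrum R)) from hp) W.2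
  have hgW' : D g ≤ W := hgW
  have h1 : toO R (D g) m = 0 := by
    rw [← res_toO hgW', hm, map_zero]
  obtain ⟨n, hn⟩ := (toO_eq_zero_iff g m).1 h1
  have h2 : g ^ n * m ∈ p.asIdeal := by
    rw [← smul_eq_mul, hn]
    exact p.asIdeal.zero_mem
  rcases p.2.mem_or_mem h2 with h | h
  · exact absurd (p.2.mem_of_pow_mem n h) hpg
  · exact h

/-- the closures of the two pieces of a disconnection of the punctured open are disjoint -/
theorem closure_inter_closure_eq_empty (a : Ideal R)
    (hsurj : Function.Surjective (toO R (LocCoh.puncturedOpen R a)))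
    (V1 V2 : (Spec (CommRingCat.of R)).Opens) (hdisj : V1 ⊓ V2 = ⊥)
    (hcov : V1 ⊔ V2 = LocCoh.puncturedOpen R a) :
    closure (V1 : Set (Spec (CommRingCat.of R))) ∩
      closure (V2 : Set (Spec (CommRingCat.of R))) = ∅ := by
  let V : Bool → (Spec (CommRingCat.of R)).Opens := fun b => Bool.rec V2 V1 b
  have hV : ∀ b, V b ≤ LocCoh.puncturedOpen R a := by
    intro b
    cases b
    · exact hcov ▸ le_sup_right
    · exact hcov ▸ le_sup_left
  have hcov' : LocCoh.puncturedOpen R a ≤ iSup V := by
    rw [← hcov]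
    exact sup_le (le_iSup V true) (le_iSup V false)
  let sf : ∀ b, Sec R (V b) := fun b => Bool.rec (motive := fun b => Sec R (V b))
    (0 : Sec R V2) (toO R V1 1) b
  have hc : ∀ i j, res R (inf_le_left : V i ⊓ V j ≤ V i) (sf i) =
      res R (inf_le_right : V i ⊓ V j ≤ V j) (sf j) := by
    intro i j
    cases i <;> cases j
    · rfl
    · exact sec_bot_eq R _ (by show V2 ⊓ V1 = ⊥; rw [inf_comm]; exact hdisj) _ _
    · exact sec_bot_eq R _ hdisj _ _
    · rfl
  obtain ⟨e, he⟩ := sec_glue (LocCoh.puncturedOpen R a) V hV hcov' sf hc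
  obtain ⟨e', he'⟩ := hsurj e
  have he1 : res R (hV true) e = toO R V1 1 := he true
  have he2 : res R (hV false) e = 0 := he false
  have h1 : toO R V1 (1 - e') = 0 := by
    rw [map_sub, ← res_toO (hV true) e', he', he1, sub_self]
  have h2 : toO R V2 e' = 0 := by
    rw [← res_toO (hV false) e', he', he2]
  have hcl1 : closure (V1 : Set (Spec (CommRingCat.of R))) ⊆
      PrimeSpectrum.zeroLocus ({1 - e'} : Set R) := by
    apply closure_minimal _ (PrimeSpectrum.isClosed_zeroLocus _)
    intro p hp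
    rw [PrimeSpectrum.mem_zeroLocus, Set.singleton_subset_iff]
    exact mem_of_toO_eq_zero V1 _ h1 p hp
  have hcl2 : closure (V2 : Set (Spec (CommRingCat.of R))) ⊆
      PrimeSpectrum.zeroLocus ({e'} : Set R) := by
    apply closure_minimal _ (PrimeSpectrum.isClosed_zeroLocus _)
    intro p hp
    rw [PrimeSpectrum.mem_zeroLocus, Set.singleton_subset_iff]
    exact mem_of_toO_eq_zero V2 _ h2 p hp
  rw [Set.eq_empty_iff_forall_notMem]
  rintro p ⟨hp1, hp2⟩
  have m1 : (1 - e') ∈ (p : PrimeSpectrum R).asIdeal := (hcl1 hp1) (Set.mem_singleton _)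
  have m2 : e' ∈ (p : PrimeSpectrum R).asIdeal := (hcl2 hp2) (Set.mem_singleton _)
  have : (1 : R) ∈ (p : PrimeSpectrum R).asIdeal := by
    have := (p : PrimeSpectrum R).asIdeal.add_mem m1 m2
    rwa [sub_add_cancel] at this
  exact (p : PrimeSpectrum R).2.ne_top ((Ideal.eq_top_iff_one _).2 this)

/-- the punctured open is dense when `a` contains a regular element -/
theorem dense_puncturedOpen (a : Ideal R) (x : R) (hxa : x ∈ a) (hx : IsSMulRegular R x) :
    Dense (LocCoh.puncturedOpen R a : Set (Spec (CommRingCat.of R))) := by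
  refine (show @Dense (PrimeSpectrum R) PrimeSpectrum.zariskiTopology
    ((LocCoh.puncturedOpen R a).1) from ?_)
  rw [(PrimeSpectrum.isTopologicalBasis_basic_opens (R := R)).dense_iff]
  rintro _ ⟨g, rfl⟩ ⟨p, hp⟩
  have hg : ¬ IsNilpotent g := by
    intro hnil
    have := (PrimeSpectrum.basicOpen_eq_bot_iff g).2 hnil
    have hp' : p ∈ PrimeSpectrum.basicOpen g := hp
    rw [this] at hp'
    exact hp'
  have hxg : ¬ IsNilpotent (x * g) := by
    rintro ⟨n, hn⟩
    apply hg
    refine ⟨n, ?_⟩
    apply (hx.pow n)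
    show x ^ n • g ^ n = x ^ n • 0
    rw [smul_zero, smul_eq_mul, ← mul_pow]
    exact hn
  have hne : PrimeSpectrum.basicOpen (x * g) ≠ ⊥ := fun h =>
    hxg ((PrimeSpectrum.basicOpen_eq_bot_iff _).1 h)
  obtain ⟨q, hq⟩ := (TopologicalSpace.Opens.ne_bot_iff_nonempty _).1 hne
  refine ⟨q, ?_, ?_⟩
  · intro hgq
    exact hq (q.asIdeal.mul_mem_left x hgq)
  · apply mem_puncturedOpen.2
    refine ⟨x, hxa, ?_⟩
    intro hxq
    exact hq (q.asIdeal.mul_mem_right g hxq)

end Groth.Agent.H58.Dep2
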